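import Groth.Prelude.Def_GSzH1
import Mathlib.FieldTheory.Finite.GaloisField
import Mathlib.FieldTheory.IsAlgClosed.AlgebraicClosure
import Mathlib.FieldTheory.KrullTopology
import Mathlib.GroupTheory.OrderOfElement

/-! Locally constant cocycles of the absolute Galois group of a finite field. -/

set_option autoImplicit false
set_option linter.style.haveILetI false
universe u v

open IntermediateField

namespace Groth.L14.Stack

variable {k : Type u} [Field k] {K : Type u} [Field K] [Algebra k K]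

theorem pow_apply_frob (π : K ≃ₐ[k] K) (hπ : ∀ x, π x = x ^ Nat.card k) (m : ℕ) (x : K) :
    (π ^ m) x = x ^ (Nat.card k) ^ m := by
  induction m with
  | zero => simp
  | succ m ih => rw [pow_succ', AlgEquiv.mul_apply, ih, hπ, ← pow_mul, ← pow_succ]

theorem exists_eq_pow_on [Finite k] (π : K ≃ₐ[k] K) (hπ : ∀ x, π x = x ^ Nat.card k)
    (E : IntermediateField k K) [FiniteDimensional k E] (σ : K ≃ₐ[k] K) :
    ∃ m : ℕ, ∀ x ∈ E, σ x = (π ^ m) x := by
  classical
  letI := Fintype.ofFinite k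
  haveI : Finite E := Module.finite_of_finite k
  obtain ⟨n, hn⟩ := (FiniteField.bijective_frobeniusAlgEquivOfAlgebraic_pow k E).2 (σ.restrictNormal E)
  refine ⟨n, fun x hx => ?_⟩
  rw [pow_apply_frob π hπ]
  have h1 : algebraMap E K ((σ.restrictNormal E) ⟨x, hx⟩) = σ x := σ.restrictNormal_commutes E ⟨x, hx⟩
  have h2 : ∀ (j : ℕ) (y : E), (FiniteField.frobeniusAlgEquivOfAlgebraic k E ^ j) y = y ^ (Fintype.card k) ^ j := by
    intro j
    induction j with
    | zero => simp
    | succ j ih =>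
      intro y
      rw [pow_succ', AlgEquiv.mul_apply, ih, pow_succ, pow_mul]
      rfl
  rw [← h1, ← hn, h2, map_pow, Nat.card_eq_fintype_card]
  rfl

theorem exists_level [Finite k] [IsAlgClosed K] (π : K ≃ₐ[k] K) (hπ : ∀ x, π x = x ^ Nat.card k)
    (N : ℕ) (hN : 0 < N) :
    ∃ E : IntermediateField k K, FiniteDimensional k E ∧ (∀ x, (π ^ N) x = x → x ∈ E) ∧
      ∀ a b : ℕ, (∀ x ∈ E, (π ^ a) x = (π ^ b) x) → a % N = b % N := by
  classical
  obtain ⟨q, hq⟩ : ∃ q, q = Nat.card k := ⟨_, rfl⟩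
  have hq1 : 1 < q := hq ▸ Finite.one_lt_card
  have hpow : ∀ (m : ℕ) (x : K), (π ^ m) x = x ^ q ^ m := fun m x => by rw [pow_apply_frob π hπ, hq]
  have hfin : Fintype k := Fintype.ofFinite k
  haveI : CharP k (ringChar k) := ringChar.charP k
  let E : IntermediateField k K := fixedField (Subgroup.zpowers (π ^ N))
  have hmem : ∀ x, x ∈ E ↔ (π ^ N) x = x := fun x => by
    refine ⟨fun h => h ⟨π ^ N, Subgroup.mem_zpowers _⟩, fun h σ => ?_⟩
    have : Subgroup.zpowers (π ^ N) ≤ MulAction.stabilizer (K ≃ₐ[k] K) x := by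
      rw [Subgroup.zpowers_le, MulAction.mem_stabilizer_iff]; exact h
    exact this σ.2
  let P : Polynomial K := Polynomial.X ^ (q ^ N) - Polynomial.X
  have hQN : 1 < q ^ N := Nat.one_lt_pow hN.ne' hq1
  have hP : P ≠ 0 := fun h => by
    have := congrArg (fun g : Polynomial K => g.coeff (q ^ N)) h
    simp [P, Polynomial.coeff_X, hQN.ne] at this
  have hEroots : (E : Set K) = (P.roots.toFinset : Set K) := Set.ext fun x => by
    simp [P, hmem, hpow, Polynomial.mem_roots hP, sub_eq_zero]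
  haveI hEfin : Finite E := by
    have : ((E : Set K)).Finite := hEroots ▸ Finset.finite_toSet _
    exact this.to_subtype
  haveI : FiniteDimensional k E := Module.Finite.of_finite
  refine ⟨E, inferInstance, fun x hx => (hmem x).mpr hx, ?_⟩
  have hcast : ((q ^ N : ℕ) : K) = 0 := by
    have : ((q : ℕ) : k) = 0 := by rw [hq, Nat.card_eq_fintype_card, Nat.cast_card_eq_zero]
    rw [Nat.cast_pow, ← map_natCast (algebraMap k K), this, map_zero, zero_pow hN.ne']
  have hsep : P.Separable := by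
    rw [Polynomial.Separable]
    simp only [P, Polynomial.derivative_sub, Polynomial.derivative_pow, Polynomial.derivative_X, hcast,
      Polynomial.C_0, zero_mul, zero_sub]
    exact isCoprime_one_right.neg_right
  have hcard : P.roots.toFinset.card = q ^ N := by
    rw [Multiset.toFinset_card_of_nodup (Polynomial.nodup_roots hsep), IsAlgClosed.card_roots_eq_natDegree,
      Polynomial.natDegree_sub_eq_left_of_natDegree_lt] <;> simp [hQN]
  have hper : ∀ (j : ℕ) (x : K), x ∈ E → (π ^ (N * j)) x = x := by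
    intro j x hx
    induction j with
    | zero => simp
    | succ j ih => rw [Nat.mul_succ, pow_add, AlgEquiv.mul_apply, (hmem x).mp hx, ih]
  have key : ∀ r : ℕ, r < N → (∀ x ∈ E, (π ^ r) x = x) → r = 0 := by
    intro r hr h
    by_contra hr0
    let Q : Polynomial K := Polynomial.X ^ (q ^ r) - Polynomial.X
    have h1 : 1 < q ^ r := Nat.one_lt_pow hr0 hq1
    have hQ : Q ≠ 0 := fun h => by
      have := congrArg (fun g : Polynomial K => g.coeff (q ^ r)) h
      simp [Q, Polynomial.coeff_X, h1.ne] at this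
    have hsub : P.roots.toFinset ⊆ Q.roots.toFinset := fun x hx => by
      have hxE : x ∈ E := by rw [← SetLike.mem_coe, hEroots]; exact hx
      have := h x hxE
      rw [hpow] at this
      simp [Q, Polynomial.mem_roots hQ, sub_eq_zero] at this ⊢
      exact this
    have := (Finset.card_le_card hsub).trans ((Multiset.toFinset_card_le _).trans (Polynomial.card_roots' _))
    rw [hcard, show Q.natDegree = q ^ r by
      rw [Polynomial.natDegree_sub_eq_left_of_natDegree_lt] <;> simp [h1]] at this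
    exact absurd this (not_le.mpr (Nat.pow_lt_pow_right hq1 hr))
  have hmod : ∀ a : ℕ, ∀ x ∈ E, (π ^ a) x = (π ^ (a % N)) x := fun a x hx => by
    conv_lhs => rw [← Nat.mod_add_div a N, pow_add, AlgEquiv.mul_apply, hper _ x hx]
  suffices ∀ a b : ℕ, a % N ≤ b % N → (∀ x ∈ E, (π ^ a) x = (π ^ b) x) → a % N = b % N by
    intro a b h
    rcases le_total (a % N) (b % N) with hab | hab
    · exact this a b hab h
    · exact (this b a hab fun x hx => (h x hx).symm).symm
  intro a b hab h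
  have : b % N - a % N = 0 := key _ ((Nat.sub_le _ _).trans_lt (Nat.mod_lt _ hN)) fun x hx => by
    have h' := h x hx
    rw [hmod a x hx, hmod b x hx, show b % N = a % N + (b % N - a % N) by omega, pow_add,
      AlgEquiv.mul_apply] at h'
    exact ((π ^ (a % N)).injective h').symm
  omega

variable {A : Type v} [Group A] [MulDistribMulAction (K ≃ₐ[k] K) A]

/-- The sequence `1, a, a·πa, …`. -/
def iter (π : K ≃ₐ[k] K) (a : A) : ℕ → A
  | 0 => 1
  | m + 1 => a * π • iter π a m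

theorem iter_add (π : K ≃ₐ[k] K) (a : A) (m n : ℕ) :
    iter π a (m + n) = iter π a m * (π ^ m) • iter π a n := by
  induction m with
  | zero => simp [iter]
  | succ m ih =>
    rw [Nat.succ_add, iter, iter, ih, smul_mul', mul_assoc, ← mul_smul, ← pow_succ']

theorem cocycle_one (z : GpH1.OneCocycle (K ≃ₐ[k] K) A) : z.1 1 = 1 := by
  have := z.2 1 1
  rw [mul_one, one_smul] at this
  exact left_eq_mul.mp this

theorem cocycle_pow (π : K ≃ₐ[k] K) (z : GpH1.OneCocycle (K ≃ₐ[k] K) A) (m : ℕ) :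
    z.1 (π ^ m) = iter π (z.1 π) m := by
  induction m with
  | zero => rw [pow_zero, cocycle_one]; rfl
  | succ m ih => rw [pow_succ', z.2, ih]; rfl

theorem exists_finiteDimensional_fix {S : Set (K ≃ₐ[k] K)} (hS : IsOpen S) (σ : K ≃ₐ[k] K) (hσ : σ ∈ S) :
    ∃ E : IntermediateField k K, FiniteDimensional k E ∧
      ∀ τ, (∀ x ∈ E, σ x = τ x) → τ ∈ S := by
  have hopen : IsOpen ((fun τ => σ * τ) ⁻¹' S) := hS.preimage (continuous_const.mul continuous_id)
  obtain ⟨E, hE, hsub⟩ := (krullTopology_mem_nhds_one_iff k K _).mp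
    (hopen.mem_nhds (by simpa using hσ))
  refine ⟨E, hE, fun τ hτ => ?_⟩
  have := hsub (show σ⁻¹ * τ ∈ E.fixingSubgroup from (IntermediateField.mem_fixingSubgroup_iff _ _).mpr
    fun x hx => by rw [AlgEquiv.mul_apply, ← hτ x hx]; exact σ.symm_apply_apply x)
  simpa using this

theorem cocycle_ext [Finite k] [Algebra.IsAlgebraic k K] (π : K ≃ₐ[k] K) (hπ : ∀ x, π x = x ^ Nat.card k)
    (z w : GpH1.OneCocycleLC (K ≃ₐ[k] K) A) (h : z.1.1 π = w.1.1 π) : z = w := by
  refine Subtype.ext (GpH1.OneCocycle.ext fun σ => ?_)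
  obtain ⟨E, hE, hsub⟩ := exists_finiteDimensional_fix
    ((z.2.isOpen_fiber (z.1.1 σ)).inter (w.2.isOpen_fiber (w.1.1 σ))) σ ⟨rfl, rfl⟩
  obtain ⟨m, hm⟩ := exists_eq_pow_on π hπ E σ
  obtain ⟨h1, h2⟩ := hsub (π ^ m) hm
  rw [← h1, ← h2, cocycle_pow, cocycle_pow, h]

theorem exists_cocycle [Finite k] [IsAlgClosed K] [Algebra.IsAlgebraic k K] (π : K ≃ₐ[k] K)
    (hπ : ∀ x, π x = x ^ Nat.card k)
    (hcont : ∀ a : A, IsOpen {σ : K ≃ₐ[k] K | σ • a = a})
    (hfin : ∀ a : A, ∃ H : Subgroup A, (H : Set A).Finite ∧ a ∈ H ∧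
      ∀ (σ : K ≃ₐ[k] K) (x : A), x ∈ H → σ • x ∈ H) (a : A) :
    ∃ z : GpH1.OneCocycleLC (K ≃ₐ[k] K) A, z.1.1 π = a := by
  classical
  letI := Fintype.ofFinite k
  obtain ⟨H, hHf, haH, hHs⟩ := hfin a
  haveI : Finite H := hHf.to_subtype
  have hsH : ∀ m, iter π a m ∈ H := fun m => by
    induction m with
    | zero => exact H.one_mem
    | succ m ih => exact H.mul_mem haH (hHs π _ ih)
  have hopen : IsOpen (⋂ h ∈ (H : Set A), {σ : K ≃ₐ[k] K | σ • h = h}) :=
    hHf.isOpen_biInter fun h _ => hcont h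
  obtain ⟨E0, hE0, hsub⟩ := exists_finiteDimensional_fix hopen 1 (by simp)
  have hfixH : ∀ σ : K ≃ₐ[k] K, (∀ x ∈ E0, σ x = x) → ∀ h ∈ H, σ • h = h := fun σ hσ h hh =>
    Set.mem_iInter₂.mp (hsub σ fun x hx => (hσ x hx).symm) h hh
  set d := Module.finrank k E0 with hd
  have hd0 : 0 < d := Module.finrank_pos
  haveI : Finite E0 := Module.finite_of_finite k
  letI := Fintype.ofFinite E0
  have hπd : ∀ x ∈ E0, (π ^ d) x = x := fun x hx => by
    rw [pow_apply_frob π hπ, Nat.card_eq_fintype_card, hd, ← Module.card_eq_pow_finrank (K := k) (V := E0)]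
    exact congrArg Subtype.val (FiniteField.pow_card (⟨x, hx⟩ : E0))
  let g : H := ⟨iter π a d, hsH d⟩
  have hjd : ∀ j : ℕ, iter π a (d * j) = (g ^ j : H).1 := fun j => by
    induction j with
    | zero => simp [iter]
    | succ j ih =>
      rw [Nat.mul_succ, add_comm, iter_add, hfixH _ hπd _ (hsH _), ih, pow_succ', Subgroup.coe_mul]
  set N := d * orderOf g with hNdef
  have hN : 0 < N := Nat.mul_pos hd0 (orderOf_pos g)
  have hπN : ∀ x ∈ E0, (π ^ N) x = x := fun x hx => by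
    rw [hNdef, pow_mul]
    induction orderOf g with
    | zero => simp
    | succ j ih => rw [pow_succ, AlgEquiv.mul_apply, hπd x hx, ih]
  have hsN : iter π a N = 1 := by rw [hNdef, hjd, pow_orderOf_eq_one]; rfl
  have hperiod : ∀ m, iter π a (N + m) = iter π a m := fun m => by
    rw [iter_add, hfixH _ hπN _ (hsH _), hsN, one_mul]
  have hmod : ∀ m, iter π a m = iter π a (m % N) := fun m => by
    induction m using Nat.strong_induction_on with
    | h m ih =>
      rcases Nat.lt_or_ge m N with hlt | hge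
      · rw [Nat.mod_eq_of_lt hlt]
      · conv_lhs => rw [← Nat.add_sub_of_le hge, hperiod, ih _ (by omega), ← Nat.mod_eq_sub_mod hge]
  obtain ⟨E, hE, hE0E, hmodE⟩ := exists_level π hπ N hN
  have hle : ∀ x ∈ E0, x ∈ E := fun x hx => hE0E x (hπN x hx)
  choose f hf using fun σ : K ≃ₐ[k] K => exists_eq_pow_on π hπ E σ
  have huniq : ∀ (σ : K ≃ₐ[k] K) (m : ℕ), (∀ x ∈ E, σ x = (π ^ m) x) → iter π a (f σ) = iter π a m :=
    fun σ m h => by
      rw [hmod (f σ), hmod m, hmodE (f σ) m fun x hx => (hf σ x hx).symm.trans (h x hx)]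
  have hact : ∀ (σ : K ≃ₐ[k] K) (h : A), h ∈ H → (π ^ f σ) • h = σ • h := fun σ h hh => by
    have h1 : (σ⁻¹ * π ^ f σ) • h = h := hfixH _ (fun x hx => by
      rw [AlgEquiv.mul_apply, ← hf σ x (hle x hx)]; exact σ.symm_apply_apply x) h hh
    conv_rhs => rw [← h1, ← mul_smul, mul_inv_cancel_left]
  have hstab : ∀ (σ : K ≃ₐ[k] K), ∀ x ∈ E, (π ^ f σ) x ∈ E := fun σ x hx => by
    rw [pow_apply_frob π hπ]; exact pow_mem hx _
  refine ⟨⟨⟨fun σ => iter π a (f σ), fun σ τ => ?_⟩, (IsLocallyConstant.iff_exists_open _).mpr fun σ => ?_⟩, ?_⟩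
  · show iter π a (f (σ * τ)) = iter π a (f σ) * σ • iter π a (f τ)
    rw [huniq (σ * τ) (f σ + f τ) fun x hx => by
      rw [AlgEquiv.mul_apply, hf τ x hx, pow_add, AlgEquiv.mul_apply, hf σ _ (hstab τ x hx)]]
    rw [iter_add, hact σ _ (hsH _)]
  · refine ⟨(fun τ => σ⁻¹ * τ) ⁻¹' (E.fixingSubgroup : Set (K ≃ₐ[k] K)),
      (IntermediateField.fixingSubgroup_isOpen E).preimage (continuous_const.mul continuous_id),
      by simp, fun τ hτ => ?_⟩
    refine huniq τ (f σ) fun x hx => ?_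
    have := (IntermediateField.mem_fixingSubgroup_iff _ _).mp hτ x hx
    rw [AlgEquiv.mul_apply] at this
    rw [← hf σ x hx]
    exact σ.symm.injective (by rw [σ.symm_apply_apply]; exact this)
  · show iter π a (f π) = a
    rw [huniq π 1 fun x _ => by rw [pow_one]]
    simp [iter]

theorem cocycle_bijective [Finite k] [IsAlgClosed K] [Algebra.IsAlgebraic k K] (π : K ≃ₐ[k] K)
    (hπ : ∀ x, π x = x ^ Nat.card k)
    (hcont : ∀ a : A, IsOpen {σ : K ≃ₐ[k] K | σ • a = a})
    (hfin : ∀ a : A, ∃ H : Subgroup A, (H : Set A).Finite ∧ a ∈ H ∧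
      ∀ (σ : K ≃ₐ[k] K) (x : A), x ∈ H → σ • x ∈ H) :
    Function.Bijective (fun z : GpH1.OneCocycleLC (K ≃ₐ[k] K) A => z.1.1 π) ∧
      ∀ z z' : GpH1.OneCocycleLC (K ≃ₐ[k] K) A,
        z.cl = z'.cl ↔ ∃ g : A, z'.1.1 π = g * z.1.1 π * (π • g)⁻¹ := by
  refine ⟨⟨fun z w => cocycle_ext π hπ z w, fun a => exists_cocycle π hπ hcont hfin a⟩, fun z z' => ?_⟩
  rw [GpH1.OneCocycleLC.cl_eq_cl_iff]
  constructor
  · rintro ⟨c, hc⟩
    exact ⟨c, by rw [hc π]; group⟩
  · rintro ⟨g, hg⟩
    have hlc : IsLocallyConstant fun σ : K ≃ₐ[k] K => σ • g := by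
      refine IsLocallyConstant.iff_isOpen_fiber.mpr fun b => isOpen_iff_mem_nhds.mpr fun σ hσ => ?_
      have ho : IsOpen ((fun τ => σ⁻¹ * τ) ⁻¹' {τ : K ≃ₐ[k] K | τ • g = g}) :=
        (hcont g).preimage (continuous_const.mul continuous_id)
      refine Filter.mem_of_superset (ho.mem_nhds (by simp)) fun τ hτ => ?_
      simp only [Set.mem_preimage, Set.mem_setOf_eq, Set.mem_singleton_iff, mul_smul, inv_smul_eq_iff] at hτ hσ ⊢
      rw [hτ, hσ]
    let w : GpH1.OneCocycleLC (K ≃ₐ[k] K) A :=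
      ⟨⟨fun σ => g * z.1.1 σ * (σ • g)⁻¹, fun σ τ => by
        show g * z.1.1 (σ * τ) * ((σ * τ) • g)⁻¹ =
          g * z.1.1 σ * (σ • g)⁻¹ * σ • (g * z.1.1 τ * (τ • g)⁻¹)
        rw [z.1.2 σ τ, mul_smul, smul_mul', smul_mul', smul_inv']; group⟩,
       ((IsLocallyConstant.const g).mul z.2).mul hlc.inv⟩
    have he : w = z' := cocycle_ext π hπ w z' hg.symm
    refine ⟨g, fun σ => ?_⟩
    rw [← he]
    show z.1.1 σ = g⁻¹ * (g * z.1.1 σ * (σ • g)⁻¹) * σ • g
    group

end Groth.L14.Stack
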