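import Groth.Prelude.Def_W4c1btstackcountsChain
import Mathlib.Algebra.Order.BigOperators.Group.Finset
import Mathlib.LinearAlgebra.Basis.VectorSpace
import Mathlib.LinearAlgebra.Dimension.Constructions
import Mathlib.LinearAlgebra.FiniteDimensional.Lemmas

/-!
Orbits of chains of matrices are classified by their rank arrays.
-/

set_option autoImplicit false

noncomputable section

open Module

namespace Groth.L14.Stack.Chain

universe u

variable {k : Type u} [Field k]

section Linear

variable {V V' : Type u} [AddCommGroup V] [Module k V] [AddCommGroup V'] [Module k V']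

theorem finrank_eq_map_add [FiniteDimensional k V] (f : V →ₗ[k] V') (S : Submodule k V) :
    finrank k S = finrank k (S.map f) + finrank k ↥(S ⊓ LinearMap.ker f) := by
  have h := LinearMap.finrank_range_add_finrank_ker (f.domRestrict S)
  have h1 : LinearMap.range (f.domRestrict S) = S.map f := by
    ext x; simp
  have h2 : (LinearMap.ker (f.domRestrict S)).map S.subtype = S ⊓ LinearMap.ker f := by
    ext x; simp [and_comm]
  have h3 := Submodule.finrank_map_subtype_eq S (LinearMap.ker (f.domRestrict S))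
  rw [h2] at h3
  rw [h1, ← h3] at h
  exact h.symm

theorem map_inf_comap (f : V →ₗ[k] V') (S : Submodule k V) (K : Submodule k V') :
    (S ⊓ K.comap f).map f = S.map f ⊓ K := by
  ext x
  constructor
  · rintro ⟨v, ⟨h1, h2⟩, rfl⟩; exact ⟨⟨v, h1, rfl⟩, h2⟩
  · rintro ⟨⟨v, h1, rfl⟩, h2⟩; exact ⟨v, ⟨h1, h2⟩, rfl⟩

/-- One step in extending an isomorphism along a flag. -/
theorem extend_step [FiniteDimensional k V] [FiniteDimensional k V'] (g : V →ₗ[k] V')
    (U K : Submodule k V) (K' : Submodule k V') (hU : Disjoint U (LinearMap.ker g))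
    (hUK : (U ⊓ K).map g = U.map g ⊓ K') (hdim : finrank k K = finrank k K') :
    ∃ g' : V →ₗ[k] V', (∀ u ∈ U, g' u = g u) ∧ Disjoint (U ⊔ K) (LinearMap.ker g') ∧
      K.map g' = K' := by
  obtain ⟨C₀, hC₀⟩ := (U ⊓ K).exists_isCompl
  obtain ⟨D₀, hD₀⟩ := (U.map g ⊓ K').exists_isCompl
  set C := C₀ ⊓ K with hCdef
  set D := D₀ ⊓ K' with hDdef
  have hsupC : U ⊓ K ⊔ C = K := by
    rw [hCdef, ← sup_inf_assoc_of_le _ (inf_le_right : U ⊓ K ≤ K), hC₀.sup_eq_top, top_inf_eq]
  have hsupD : U.map g ⊓ K' ⊔ D = K' := by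
    rw [hDdef, ← sup_inf_assoc_of_le _ (inf_le_right : U.map g ⊓ K' ≤ K'), hD₀.sup_eq_top, top_inf_eq]
  have hUC : U ⊓ C = ⊥ := by
    rw [eq_bot_iff, ← hC₀.inf_eq_bot]
    exact le_inf (inf_le_inf_left U inf_le_right) (inf_le_right.trans inf_le_left)
  have hUD : U.map g ⊓ D = ⊥ := by
    rw [eq_bot_iff, ← hD₀.inf_eq_bot]
    exact le_inf (inf_le_inf_left _ inf_le_right) (inf_le_right.trans inf_le_left)
  have hUC' : U ⊓ K ⊓ C = ⊥ := eq_bot_iff.mpr ((inf_le_inf_right C inf_le_left).trans hUC.le)
  have hUD' : U.map g ⊓ K' ⊓ D = ⊥ := eq_bot_iff.mpr ((inf_le_inf_right D inf_le_left).trans hUD.le)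
  have hmapdim : finrank k ↥(U.map g ⊓ K') = finrank k ↥(U ⊓ K) := by
    rw [← hUK, finrank_eq_map_add g (U ⊓ K),
      eq_bot_iff.mpr ((inf_le_inf_right _ inf_le_left).trans (disjoint_iff.mp hU).le), finrank_bot, add_zero]
  have e₁ := Submodule.finrank_sup_add_finrank_inf_eq (U ⊓ K) C
  rw [hsupC, hUC', finrank_bot, add_zero] at e₁
  have e₂ := Submodule.finrank_sup_add_finrank_inf_eq (U.map g ⊓ K') D
  rw [hsupD, hUD', finrank_bot, add_zero] at e₂
  let e : C ≃ₗ[k] D := LinearEquiv.ofFinrankEq _ _ (by omega)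
  let ι : (U × C) →ₗ[k] V := U.subtype.coprod C.subtype
  have hι : LinearMap.ker ι = ⊥ := by
    rw [LinearMap.ker_eq_bot']
    rintro ⟨u, c⟩ h
    have h' : (u : V) + c = 0 := h
    have hu : (u : V) ∈ U ⊓ C := ⟨u.2, by rw [eq_neg_of_add_eq_zero_left h']; exact C.neg_mem c.2⟩
    rw [hUC, Submodule.mem_bot] at hu
    have hc : (c : V) = 0 := by rwa [hu, zero_add] at h'
    exact Prod.ext (Subtype.ext hu) (Subtype.ext hc)
  obtain ⟨r, hr⟩ := ι.exists_leftInverse_of_injective hι
  let g' : V →ₗ[k] V' := ((g ∘ₗ U.subtype).coprod (D.subtype ∘ₗ e.toLinearMap)) ∘ₗ r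
  have hg' : ∀ (u : U) (c : C), g' ((u : V) + c) = g u + e c := fun u c => by
    have h := LinearMap.congr_fun hr (u, c)
    show ((g ∘ₗ U.subtype).coprod (D.subtype ∘ₗ e.toLinearMap)) (r ((u : V) + c)) = _
    rw [show r ((u : V) + c) = (u, c) from h]
    rfl
  have hgU : ∀ u ∈ U, g' u = g u := fun u hu => by simpa using hg' ⟨u, hu⟩ 0
  have hgC : C.map g' = D := by
    ext x
    constructor
    · rintro ⟨c, hc, rfl⟩
      have := hg' 0 ⟨c, hc⟩
      simp only [Submodule.coe_zero, zero_add, map_zero] at this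
      rw [this]; exact (e _).2
    · intro hx
      refine ⟨e.symm ⟨x, hx⟩, (e.symm ⟨x, hx⟩).2, ?_⟩
      simpa using hg' 0 (e.symm ⟨x, hx⟩)
  refine ⟨g', hgU, ?_, ?_⟩
  · rw [show U ⊔ K = U ⊔ C by
      conv_lhs => rw [← hsupC, ← sup_assoc, sup_eq_left.mpr (inf_le_left : U ⊓ K ≤ U)]]
    rw [disjoint_iff, eq_bot_iff]
    rintro x ⟨hx, hx0⟩
    obtain ⟨u, hu, c, hc, rfl⟩ := Submodule.mem_sup.mp hx
    have h := hg' ⟨u, hu⟩ ⟨c, hc⟩
    rw [show g' (u + c) = 0 from hx0] at h
    have h1 : (e ⟨c, hc⟩ : V') ∈ U.map g ⊓ D := ⟨⟨-u, U.neg_mem hu, by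
      rw [map_neg]; exact neg_eq_of_add_eq_zero_right h.symm⟩, (e _).2⟩
    rw [hUD, Submodule.mem_bot] at h1
    have hc0 : c = 0 := by
      have := e.map_eq_zero_iff.mp (Subtype.ext h1 : e ⟨c, hc⟩ = 0)
      exact congrArg Subtype.val this
    rw [h1, add_zero] at h
    have hu0 : u = 0 := (Submodule.mem_bot k).mp (hU.le_bot ⟨hu, h.symm⟩)
    simp [hc0, hu0]
  · conv_lhs => rw [← hsupC]
    rw [Submodule.map_sup, hgC, show (U ⊓ K).map g' = (U ⊓ K).map g from
      SetLike.coe_injective (Set.image_congr fun u hu => hgU u hu.1), hUK, hsupD]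

/-- Extending an isomorphism between subspaces compatibly with two flags. -/
theorem extend_flag [FiniteDimensional k V] [FiniteDimensional k V'] (h : V →ₗ[k] V')
    (W : Submodule k V) (K : ℕ → Submodule k V) (K' : ℕ → Submodule k V') (N : ℕ)
    (hW : Disjoint W (LinearMap.ker h)) (hK : Monotone K) (hK' : Monotone K') (h0 : K 0 = ⊥)
    (h0' : K' 0 = ⊥) (hdim : ∀ l, l ≤ N → finrank k (K l) = finrank k (K' l))
    (hWK : ∀ l, l ≤ N → (W ⊓ K l).map h = W.map h ⊓ K' l)
    (hV : finrank k V = finrank k V') :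
    ∃ g : V →ₗ[k] V', Function.Bijective g ∧ (∀ w ∈ W, g w = h w) ∧
      ∀ l, l ≤ N → (K l).map g = K' l := by
  have key : ∀ n, n ≤ N → ∃ g : V →ₗ[k] V', Disjoint (W ⊔ K n) (LinearMap.ker g) ∧
      (∀ w ∈ W, g w = h w) ∧ ∀ l, l ≤ n → (K l).map g = K' l := by
    intro n
    induction n with
    | zero =>
      exact fun _ => ⟨h, by rw [h0, sup_bot_eq]; exact hW, fun _ _ => rfl, fun l hl => by
        rw [Nat.le_zero.mp hl, h0, h0', Submodule.map_bot]⟩
    | succ n ih =>
      intro hn
      obtain ⟨g, hg1, hg2, hg3⟩ := ih (by omega)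
      have hmW : ∀ S : Submodule k V, S ≤ W → S.map g = S.map h := fun S hS =>
        SetLike.coe_injective (Set.image_congr fun u hu => hg2 u (hS hu))
      obtain ⟨g', a1, a2, a3⟩ := extend_step g (W ⊔ K n) (K (n + 1)) (K' (n + 1)) hg1 (by
        rw [sup_comm W, sup_inf_assoc_of_le _ (hK n.le_succ), Submodule.map_sup, Submodule.map_sup,
          hg3 n le_rfl, hmW _ inf_le_left, hmW _ le_rfl, hWK _ hn,
          sup_inf_assoc_of_le _ (hK' n.le_succ)]) (hdim _ hn)
      refine ⟨g', a2.mono_left (sup_le_sup le_sup_left le_rfl |>.trans' le_rfl), fun w hw => ?_,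
        fun l hl => ?_⟩
      · rw [a1 w (Submodule.mem_sup_left hw), hg2 w hw]
      · rcases Nat.lt_or_ge l (n + 1) with hl' | hl'
        · rw [← hg3 l (by omega)]
          exact SetLike.coe_injective (Set.image_congr fun u hu =>
            a1 u (Submodule.mem_sup_right (hK (by omega) hu)))
        · obtain rfl : l = n + 1 := by omega
          exact a3
  obtain ⟨g, hg1, hg2, hg3⟩ := key N le_rfl
  obtain ⟨g', a1, a2, a3⟩ := extend_step g (W ⊔ K N) ⊤ ⊤ hg1 (by simp) (by
    rw [finrank_top, finrank_top, hV])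
  rw [sup_top_eq, top_disjoint, LinearMap.ker_eq_bot] at a2
  rw [Submodule.map_top, LinearMap.range_eq_top] at a3
  refine ⟨g', ⟨a2, a3⟩, fun w hw => ?_, fun l hl => ?_⟩
  · rw [a1 w (Submodule.mem_sup_left hw), hg2 w hw]
  · rw [← hg3 l hl]
    exact SetLike.coe_injective (Set.image_congr fun u hu =>
      a1 u (Submodule.mem_sup_right (hK hl hu)))

/-- A map descends through a surjection onto its range. -/
theorem exists_factor (f : V →ₗ[k] V') {W : Type u} [AddCommGroup W] [Module k W] (φ : V →ₗ[k] W)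
    (h : LinearMap.ker f ≤ LinearMap.ker φ) : ∃ H : V' →ₗ[k] W, ∀ v, H (f v) = φ v := by
  obtain ⟨s, hs⟩ := f.rangeRestrict.exists_rightInverse_of_surjective f.range_rangeRestrict
  obtain ⟨H, hH⟩ := LinearMap.exists_extend (φ ∘ₗ s)
  refine ⟨H, fun v => ?_⟩
  have h1 : f (s (f.rangeRestrict v)) = f v :=
    congrArg Subtype.val (LinearMap.congr_fun hs (f.rangeRestrict v))
  have h2 : s (f.rangeRestrict v) - v ∈ LinearMap.ker φ := h (by simp [h1])
  rw [LinearMap.mem_ker, map_sub, sub_eq_zero] at h2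
  rw [← h2]
  exact LinearMap.congr_fun hH (f.rangeRestrict v)

end Linear

variable {d : ℕ → ℕ}

/-- Chains of matrices. -/
abbrev Ch (k : Type u) (d : ℕ → ℕ) := (i : ℕ) → Matrix (Fin (d (i + 1))) (Fin (d i)) k

/-- The linear maps of a chain. -/
def L (f : Ch k d) (j : ℕ) : (Fin (d j) → k) →ₗ[k] (Fin (d (j + 1)) → k) := Matrix.toLin' (f j)

/-- The image of the `i`-th space in the `j`-th one. -/
def Img (f : Ch k d) (i : ℕ) : (j : ℕ) → Submodule k (Fin (d j) → k)
  | 0 => ⊤
  | j + 1 => if j + 1 ≤ i then ⊤ else (Img f i j).map (L f j)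

theorem Img_le (f : Ch k d) {i j : ℕ} (h : j ≤ i) : Img f i j = ⊤ := by
  cases j with
  | zero => rfl
  | succ j => rw [Img, if_pos h]

theorem Img_succ (f : Ch k d) {i j : ℕ} (h : i ≤ j) :
    Img f i (j + 1) = (Img f i j).map (L f j) := by
  rw [Img, if_neg (by omega)]

theorem iterImage_eq (f : Ch k d) (i n : ℕ) :
    W4c1btstackcounts.iterImage f i n = Img f i (i + n) := by
  induction n with
  | zero => exact (Img_le f le_rfl).symm
  | succ n ih =>
    rw [W4c1btstackcounts.iterImage, ih]
    exact (Img_succ f (Nat.le_add_right i n)).symm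

theorem rankArray_eq (f : Ch k d) {i j : ℕ} (h : i ≤ j) :
    W4c1btstackcounts.rankArray f i j = finrank k (Img f i j) := by
  obtain ⟨n, rfl⟩ := Nat.exists_eq_add_of_le h
  rw [W4c1btstackcounts.rankArray, if_pos h, Nat.add_sub_cancel_left, iterImage_eq]

theorem finrank_Img_self (f : Ch k d) (i : ℕ) : finrank k (Img f i i) = d i := by
  rw [Img_le f le_rfl, finrank_top, finrank_fin_fun]

theorem Img_mono (f : Ch k d) {i i' : ℕ} (h : i ≤ i') : ∀ j, Img f i j ≤ Img f i' j
  | 0 => le_rfl
  | j + 1 => by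
    by_cases hj : j + 1 ≤ i'
    · rw [Img_le f hj]; exact le_top
    · rw [Img_succ f (by omega), Img_succ f (by omega)]
      exact Submodule.map_mono (Img_mono f h j)

/-- The kernel of the composite of `n` maps starting at `j`. -/
def Ker (f : Ch k d) : (n : ℕ) → (j : ℕ) → Submodule k (Fin (d j) → k)
  | 0, _ => ⊥
  | n + 1, j => (Ker f n (j + 1)).comap (L f j)

theorem Ker_mono (f : Ch k d) : ∀ (n j : ℕ), Ker f n j ≤ Ker f (n + 1) j
  | 0, _ => bot_le
  | n + 1, j => Submodule.comap_mono (Ker_mono f n (j + 1))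

theorem Ker_monotone (f : Ch k d) (j : ℕ) : Monotone fun n => Ker f n j :=
  monotone_nat_of_le_succ fun n => Ker_mono f n j

theorem rank_identity (f : Ch k d) : ∀ (n i j : ℕ), i ≤ j →
    finrank k (Img f i j) = finrank k (Img f i (j + n)) + finrank k ↥(Img f i j ⊓ Ker f n j)
  | 0, i, j, _ => by
    rw [show Ker f 0 j = ⊥ from rfl, inf_bot_eq, finrank_bot, add_zero, add_zero]
  | n + 1, i, j, h => by
    have e1 := finrank_eq_map_add (L f j) (Img f i j)
    have e2 := finrank_eq_map_add (L f j) (Img f i j ⊓ Ker f (n + 1) j)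
    have e3 : Img f i j ⊓ Ker f (n + 1) j ⊓ LinearMap.ker (L f j) =
        Img f i j ⊓ LinearMap.ker (L f j) := by
      rw [inf_assoc]
      congr 1
      exact inf_eq_right.mpr (Submodule.comap_mono bot_le)
    rw [e3, show (Img f i j ⊓ Ker f (n + 1) j).map (L f j) =
      (Img f i j).map (L f j) ⊓ Ker f n (j + 1) from map_inf_comap _ _ _] at e2
    have e4 := rank_identity f n i (j + 1) (by omega)
    rw [← Img_succ f h] at e1 e2
    rw [show j + (n + 1) = j + 1 + n by omega]
    omega

theorem finrank_Ker (f : Ch k d) (n j : ℕ) :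
    finrank k (Img f j (j + n)) + finrank k (Ker f n j) = d j := by
  have := rank_identity f n j j le_rfl
  rw [finrank_Img_self, Img_le f le_rfl, top_inf_eq] at this
  exact this.symm

theorem isRankArray (f : Ch k d) (r : ℕ) :
    W4c1btstackcounts.IsRankArray d r (W4c1btstackcounts.rankArray f) := by
  refine ⟨fun j _ _ => by rw [rankArray_eq f le_rfl, finrank_Img_self], fun i j _ hij _ => ?_,
    fun i j _ hij _ => ?_, fun i j hi hij _ => ?_⟩
  · rw [rankArray_eq f hij.le, rankArray_eq f hij]
    exact Submodule.finrank_mono (Img_mono f i.le_succ j)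
  · rw [rankArray_eq f hij, rankArray_eq f (by omega : i ≤ j + 1), Img_succ f hij]
    exact Submodule.finrank_map_le _ _
  · rw [rankArray_eq f hij, rankArray_eq f (by omega : i ≤ j + 1),
      rankArray_eq f (by omega : i - 1 ≤ j), rankArray_eq f (by omega : i - 1 ≤ j + 1),
      Img_succ f hij, Img_succ f (by omega : i - 1 ≤ j)]
    have e1 := finrank_eq_map_add (L f j) (Img f i j)
    have e2 := finrank_eq_map_add (L f j) (Img f (i - 1) j)
    have e3 := Submodule.finrank_mono
      (inf_le_inf_right (LinearMap.ker (L f j)) (Img_mono f (Nat.sub_le i 1) j))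
    omega

theorem L_conj (g : (j : ℕ) → Matrix.GeneralLinearGroup (Fin (d j)) k) (f : Ch k d) (j : ℕ)
    (x : Fin (d j) → k) :
    L (W4c1btstackcounts.conj g f) j x =
      Matrix.toLin' (g (j + 1) : Matrix (Fin (d (j + 1))) (Fin (d (j + 1))) k)
        (L f j (Matrix.toLin' (↑(g j)⁻¹ : Matrix (Fin (d j)) (Fin (d j)) k) x)) := by
  simp only [L, W4c1btstackcounts.conj, Matrix.toLin'_mul, LinearMap.comp_apply]

theorem rankArray_conj (g : (j : ℕ) → Matrix.GeneralLinearGroup (Fin (d j)) k) (f : Ch k d)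
    {i j : ℕ} (h : i ≤ j) :
    W4c1btstackcounts.rankArray (W4c1btstackcounts.conj g f) i j =
      W4c1btstackcounts.rankArray f i j := by
  let G : ∀ m, (Fin (d m) → k) ≃ₗ[k] (Fin (d m) → k) := fun m =>
    LinearEquiv.ofLinear (Matrix.toLin' (g m : Matrix (Fin (d m)) (Fin (d m)) k))
      (Matrix.toLin' (↑(g m)⁻¹ : Matrix (Fin (d m)) (Fin (d m)) k))
      (by rw [← Matrix.toLin'_mul, Units.mul_inv, Matrix.toLin'_one])
      (by rw [← Matrix.toLin'_mul, Units.inv_mul, Matrix.toLin'_one])
  have key : ∀ m, Img (W4c1btstackcounts.conj g f) i m = (Img f i m).map (G m).toLinearMap := by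
    intro m
    induction m with
    | zero => simp [Img]
    | succ m ih =>
      by_cases hm : m + 1 ≤ i
      · rw [Img_le _ hm, Img_le f hm, Submodule.map_top, LinearEquiv.range]
      · rw [Img_succ _ (by omega : i ≤ m), Img_succ f (by omega : i ≤ m), ih, ← Submodule.map_comp,
          ← Submodule.map_comp]
        congr 1
        refine LinearMap.ext fun x => ?_
        show L (W4c1btstackcounts.conj g f) m (G m x) = G (m + 1) (L f m x)
        rw [L_conj]
        have : Matrix.toLin' (↑(g m)⁻¹ : Matrix (Fin (d m)) (Fin (d m)) k) (G m x) = x :=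
          (G m).symm_apply_apply x
        rw [this]
        rfl
  rw [rankArray_eq _ h, rankArray_eq _ h, key, LinearEquiv.finrank_map_eq]

theorem exists_conj (r : ℕ) (f f' : Ch k d)
    (hrk : ∀ i j : ℕ, 1 ≤ i → i ≤ j → j ≤ r →
      W4c1btstackcounts.rankArray f i j = W4c1btstackcounts.rankArray f' i j) :
    ∃ g : (j : ℕ) → Matrix.GeneralLinearGroup (Fin (d j)) k,
      ∀ i : ℕ, 1 ≤ i → i + 1 ≤ r → W4c1btstackcounts.conj g f i = f' i := by
  classical
  have hdim : ∀ m n, 1 ≤ m → m + n ≤ r → finrank k (Ker f n m) = finrank k (Ker f' n m) := by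
    intro m n hm hmn
    have h1 := finrank_Ker f n m
    have h2 := finrank_Ker f' n m
    have h3 := hrk m (m + n) hm (Nat.le_add_right m n) hmn
    rw [rankArray_eq f (Nat.le_add_right m n), rankArray_eq f' (Nat.le_add_right m n)] at h3
    omega
  suffices h : ∀ m, m ≤ r → ∃ g : ∀ i, (Fin (d i) → k) →ₗ[k] (Fin (d i) → k),
      (∀ i, Function.Bijective (g i)) ∧
      (∀ i, 1 ≤ i → i < m → ∀ v, L f' i (g i v) = g (i + 1) (L f i v)) ∧
      (1 ≤ m → ∀ n, m + n ≤ r → (Ker f n m).map (g m) = Ker f' n m) by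
    obtain ⟨g, hb, hc, -⟩ := h r le_rfl
    let G : ∀ i, (Fin (d i) → k) ≃ₗ[k] (Fin (d i) → k) := fun i => LinearEquiv.ofBijective (g i) (hb i)
    let M : ∀ i, Matrix.GeneralLinearGroup (Fin (d i)) k := fun i =>
      ⟨LinearMap.toMatrix' (G i).toLinearMap, LinearMap.toMatrix' (G i).symm.toLinearMap,
        by rw [← LinearMap.toMatrix'_comp, LinearEquiv.comp_coe, LinearEquiv.symm_trans_self]; simp,
        by rw [← LinearMap.toMatrix'_comp, LinearEquiv.comp_coe, LinearEquiv.self_trans_symm]; simp⟩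
    refine ⟨M, fun i h1 h2 => Matrix.toLin'.injective (LinearMap.ext fun x => ?_)⟩
    show L (W4c1btstackcounts.conj M f) i x = L f' i x
    rw [L_conj]
    simp only [M, Matrix.toLin'_toMatrix', Units.inv_mk, LinearEquiv.coe_coe]
    show g (i + 1) (L f i ((G i).symm x)) = L f' i x
    rw [← hc i h1 (by omega)]
    exact congrArg (L f' i) ((G i).apply_symm_apply x)
  intro m
  induction m with
  | zero => exact fun _ => ⟨fun i => LinearMap.id, fun i => Function.bijective_id, by omega, by omega⟩
  | succ m ih =>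
    intro hm
    obtain ⟨g, hb, hc, hK⟩ := ih (by omega)
    obtain ⟨gnew, hbij, hker, hcomm⟩ : ∃ gn : (Fin (d (m + 1)) → k) →ₗ[k] (Fin (d (m + 1)) → k),
        Function.Bijective gn ∧ (∀ n, m + 1 + n ≤ r → (Ker f n (m + 1)).map gn = Ker f' n (m + 1)) ∧
        (1 ≤ m → ∀ v, L f' m (g m v) = gn (L f m v)) := by
      rcases Nat.eq_zero_or_pos m with rfl | hm1
      · obtain ⟨gn, h1, -, h3⟩ := extend_flag (0 : (Fin (d 1) → k) →ₗ[k] (Fin (d 1) → k)) ⊥
          (fun n => Ker f n 1) (fun n => Ker f' n 1) (r - 1) disjoint_bot_left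
          (Ker_monotone f 1) (Ker_monotone f' 1) rfl rfl
          (fun l hl => hdim 1 l le_rfl (by omega)) (fun l _ => by simp) rfl
        exact ⟨gn, h1, fun n hn => h3 n (by omega), by omega⟩
      · have hker1 : (LinearMap.ker (L f m)).map (g m) = LinearMap.ker (L f' m) :=
          hK hm1 1 (by omega)
        obtain ⟨H, hH⟩ := exists_factor (L f m) (L f' m ∘ₗ g m) (fun v hv => by
          exact hker1.le ⟨v, hv, rfl⟩)
        have hrange : (LinearMap.range (L f m)).map H = LinearMap.range (L f' m) := by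
          rw [← LinearMap.range_comp, show H ∘ₗ L f m = L f' m ∘ₗ g m from LinearMap.ext hH,
            LinearMap.range_comp_of_range_eq_top _ (LinearMap.range_eq_top.mpr (hb m).2)]
        have hdisj : Disjoint (LinearMap.range (L f m)) (LinearMap.ker H) := by
          rw [Submodule.disjoint_def]
          rintro x ⟨v, rfl⟩ hv
          obtain ⟨v', hv', he⟩ := hker1.ge (show g m v ∈ LinearMap.ker (L f' m) by
            rw [LinearMap.mem_ker, ← LinearMap.comp_apply, ← hH]; exact hv)
          rw [← (hb m).1 he]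
          exact hv'
        obtain ⟨gn, h1, h2, h3⟩ := extend_flag H (LinearMap.range (L f m))
          (fun n => Ker f n (m + 1)) (fun n => Ker f' n (m + 1)) (r - (m + 1)) hdisj
          (Ker_monotone f _) (Ker_monotone f' _) rfl rfl
          (fun l hl => hdim (m + 1) l (by omega) (by omega)) (fun l hl => by
            have e1 : LinearMap.range (L f m) ⊓ Ker f l (m + 1) = (Ker f (l + 1) m).map (L f m) :=
              (Submodule.map_comap_eq _ _).symm
            have e2 : LinearMap.range (L f' m) ⊓ Ker f' l (m + 1) = (Ker f' (l + 1) m).map (L f' m) :=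
              (Submodule.map_comap_eq _ _).symm
            rw [hrange, e1, e2, ← hK hm1 (l + 1) (by omega), ← Submodule.map_comp,
              ← Submodule.map_comp, show H ∘ₗ L f m = L f' m ∘ₗ g m from LinearMap.ext hH]) rfl
        exact ⟨gn, h1, fun n hn => h3 n (by omega), fun _ v => by
          rw [h2 _ (LinearMap.mem_range_self _ _), hH]; rfl⟩
    refine ⟨Function.update g (m + 1) gnew, fun i => ?_, fun i h1 h2 v => ?_, fun _ n hn => ?_⟩
    · rcases eq_or_ne i (m + 1) with rfl | hi
      · simpa using hbij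
      · simpa [hi] using hb i
    · rcases eq_or_ne i m with rfl | hi
      · rw [Function.update_of_ne (by omega), Function.update_self]
        exact hcomm h1 v
      · rw [Function.update_of_ne (by omega), Function.update_of_ne (by omega)]
        exact hc i h1 (by omega) v
    · rw [Function.update_self]
      exact hker n hn

/-- Vectors supported in the first `a` coordinates. -/
def seg (k : Type u) [Field k] (d a : ℕ) : Submodule k (Fin d → k) where
  carrier := {v | ∀ t : Fin d, a ≤ (t : ℕ) → v t = 0}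
  add_mem' hv hw t ht := by simp [hv t ht, hw t ht]
  zero_mem' _ _ := rfl
  smul_mem' c v hv t ht := by simp [hv t ht]

theorem seg_eq_top {d a : ℕ} (h : d ≤ a) : seg k d a = ⊤ :=
  eq_top_iff.mpr fun v _ t ht => by have := t.2; omega

theorem finrank_seg {d a : ℕ} (h : a ≤ d) : finrank k (seg k d a) = a := by
  let φ : (seg k d a) →ₗ[k] (Fin a → k) :=
    LinearMap.funLeft k k (Fin.castLE h) ∘ₗ (seg k d a).subtype
  have hb : Function.Bijective φ := by
    refine ⟨fun v w hvw => Subtype.ext (funext fun t => ?_), fun w => ?_⟩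
    · by_cases ht : (t : ℕ) < a
      · exact congrFun hvw ⟨t, ht⟩
      · rw [v.2 t (by omega), w.2 t (by omega)]
    · refine ⟨⟨fun t => if ht : (t : ℕ) < a then w ⟨t, ht⟩ else 0, fun t ht => ?_⟩, ?_⟩
      · show dite _ _ _ = _
        rw [dif_neg (by omega)]
      · funext t
        simp [φ]
  rw [(LinearEquiv.ofBijective φ hb).finrank_eq, finrank_fin_fun]

section Partial

variable (A B : ℕ → ℕ) (j : ℕ)

/-- The block containing a target index. -/
def blk (s : ℕ) : ℕ := Nat.findGreatest (fun i => A i ≤ s) j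

/-- The source index of a target index. -/
def src (s : ℕ) : ℕ := s + (B (blk A j s) - A (blk A j s))

theorem blk_mono {s s' : ℕ} (h : s ≤ s') : blk A j s ≤ blk A j s' :=
  Nat.findGreatest_mono (fun _ hi => hi.trans h) le_rfl

variable {A B j}

theorem A_blk_le (hA0 : A 0 = 0) (s : ℕ) : A (blk A j s) ≤ s :=
  Nat.findGreatest_spec (P := fun i => A i ≤ s) (m := 0) (Nat.zero_le j) (by omega)

theorem src_lt (hA0 : A 0 = 0) (hA : ∀ i i', i ≤ i' → i' ≤ j → A i ≤ A i')
    (hB : ∀ i i', i ≤ i' → i' ≤ j → B i ≤ B i')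
    (hD : ∀ i i', i ≤ i' → i' ≤ j → B i - A i ≤ B i' - A i')
    (hle : ∀ i, i ≤ j → A i ≤ B i) {s i : ℕ} (hi : i ≤ j) : src A B j s < B i ↔ s < A i := by
  have hp := A_blk_le (j := j) hA0 s
  have hpj : blk A j s ≤ j := Nat.findGreatest_le j
  constructor
  · intro h
    by_contra hs
    have h1 : i ≤ blk A j s := Nat.le_findGreatest hi (by omega)
    have := hD _ _ h1 hpj
    have := hle i hi
    simp only [src] at h
    omega
  · intro h
    have h1 : blk A j s < i := by
      by_contra hc
      have := hA i _ (not_lt.mp hc) hpj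
      omega
    have := hD _ _ h1.le hi
    have := hle i hi
    simp only [src]
    omega

theorem src_inj (hD : ∀ i i', i ≤ i' → i' ≤ j → B i - A i ≤ B i' - A i') :
    StrictMono (src A B j) := by
  intro s s' h
  have := hD _ _ (blk_mono A j h.le) (Nat.findGreatest_le j)
  simp only [src]
  omega

/-- The partial coordinate map. -/
def pmap (k : Type u) [Field k] (A B : ℕ → ℕ) (j n m : ℕ) : (Fin n → k) →ₗ[k] (Fin m → k) :=
  LinearMap.pi fun s => if h : (s : ℕ) < A j ∧ src A B j s < n then LinearMap.proj ⟨_, h.2⟩ else 0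

theorem map_seg (hA0 : A 0 = 0) (hA : ∀ i i', i ≤ i' → i' ≤ j → A i ≤ A i')
    (hB : ∀ i i', i ≤ i' → i' ≤ j → B i ≤ B i')
    (hD : ∀ i i', i ≤ i' → i' ≤ j → B i - A i ≤ B i' - A i')
    (hle : ∀ i, i ≤ j → A i ≤ B i) {n m i : ℕ} (hi : i ≤ j) (hn : B j ≤ n) :
    (seg k n (B i)).map (pmap k A B j n m) = seg k m (A i) := by
  apply le_antisymm
  · rintro _ ⟨v, hv, rfl⟩ s hs
    simp only [pmap, LinearMap.pi_apply]
    split_ifs with h
    · refine hv _ (?_ : B i ≤ src A B j s)
      have := (src_lt hA0 hA hB hD hle (s := (s : ℕ)) hi).mp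
      omega
    · rfl
  · intro w hw
    refine ⟨fun t => ∑ s : Fin m, if (t : ℕ) = src A B j s then w s else 0, fun t ht => ?_,
      funext fun s => ?_⟩
    · refine Finset.sum_eq_zero fun s _ => ?_
      split_ifs with h
      · refine hw s ?_
        by_contra hs
        have := (src_lt hA0 hA hB hD hle (s := (s : ℕ)) hi).mpr (by omega)
        omega
      · rfl
    · simp only [pmap, LinearMap.pi_apply]
      split_ifs with h
      · rw [LinearMap.proj_apply, Finset.sum_eq_single s]
        · simp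
        · intro s' _ hs'
          rw [if_neg]
          intro e
          exact hs' (Fin.ext ((src_inj hD).injective e).symm)
        · simp
      · rw [LinearMap.zero_apply]
        refine (hw s ?_).symm
        by_contra hs
        have := hA i j hi le_rfl
        have := (src_lt hA0 hA hB hD hle (s := (s : ℕ)) le_rfl).mpr (by omega)
        omega

end Partial

theorem exists_chain (r : ℕ) (a : ℕ → ℕ → ℕ) (ha : W4c1btstackcounts.IsRankArray d r a) :
    ∃ f : Ch k d, ∀ i j : ℕ, 1 ≤ i → i ≤ j → j ≤ r →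
      W4c1btstackcounts.rankArray f i j = a i j := by
  obtain ⟨hd, h1, h2, h3⟩ := ha
  let A : ℕ → ℕ → ℕ := fun j i => if i = 0 then 0 else a i j
  let f : Ch k d := fun j =>
    LinearMap.toMatrix' (pmap k (A (j + 1)) (A j) j (d j) (d (j + 1)))
  have amono : ∀ j, j ≤ r → ∀ i i', 1 ≤ i → i ≤ i' → i' ≤ j → a i j ≤ a i' j := by
    intro j hj i i' hi hii
    induction i', hii using Nat.le_induction with
    | base => exact fun _ => le_rfl
    | succ n hn ih => exact fun h => (ih (by omega)).trans (h1 n j (by omega) (by omega) hj)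
  have Amono : ∀ j, j ≤ r → ∀ i i', i ≤ i' → i' ≤ j → A j i ≤ A j i' := by
    intro j hj i i' hii hi'
    by_cases hi : i = 0
    · simp [A, hi]
    · simp only [A, if_neg hi, if_neg (by omega : i' ≠ 0)]
      exact amono j hj i i' (by omega) hii hi'
  have key : ∀ j, ∀ i, 1 ≤ i → i ≤ j → j ≤ r → Img f i j = seg k (d j) (a i j) := by
    intro j
    induction j with
    | zero => omega
    | succ j ih =>
      intro i hi hij hj
      rcases eq_or_lt_of_le hij with rfl | hlt
      · rw [Img_le f le_rfl, seg_eq_top (hd _ hi hj).ge]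
      · have hij' : i ≤ j := by omega
        rw [Img_succ f hij', ih i hi hij' (by omega)]
        have hL : L f j = pmap k (A (j + 1)) (A j) j (d j) (d (j + 1)) := Matrix.toLin'_toMatrix' _
        rw [hL, show a i j = A j i from (if_neg (by omega : i ≠ 0)).symm,
          show a i (j + 1) = A (j + 1) i from (if_neg (by omega : i ≠ 0)).symm]
        have hle : ∀ l, l ≤ j → A (j + 1) l ≤ A j l := by
          intro l hl
          by_cases hl0 : l = 0
          · simp [A, hl0]
          · simp only [A, if_neg hl0]; exact h2 l j (by omega) hl (by omega)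
        refine map_seg (by simp [A]) (fun l l' h h' => Amono (j + 1) hj l l' h (by omega))
          (Amono j (by omega)) ?_ hle hij' ?_
        · intro l l' hll
          induction l', hll using Nat.le_induction with
          | base => exact fun _ => le_rfl
          | succ n hn ihn =>
            intro h
            refine (ihn (by omega)).trans ?_
            have := hle n (by omega)
            have := hle (n + 1) h
            by_cases hn0 : n = 0
            · simp [A, hn0]
            · have := h3 (n + 1) j (by omega) h (by omega)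
              simp only [A, if_neg hn0, if_neg (Nat.succ_ne_zero n), Nat.add_sub_cancel] at *
              omega
        · simp only [A, if_neg (by omega : j ≠ 0)]
          exact (hd j (by omega) (by omega)).le
  refine ⟨f, fun i j hi hij hj => ?_⟩
  rw [rankArray_eq f hij, key j i hi hij hj, finrank_seg ?_]
  rw [← hd j (hi.trans hij) hj]
  exact amono j hj i j hi hij le_rfl

end Groth.L14.Stack.Chain
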