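import Mathlib.FieldTheory.RatFunc.AsPolynomial
import Mathlib.RingTheory.PowerSeries.Exp
import Mathlib.RingTheory.PowerSeries.Substitution
import Mathlib.RingTheory.PowerSeries.Derivative
import Mathlib.Analysis.Complex.Polynomial.Basic
import Mathlib.Algebra.Polynomial.Roots

/-!
Rationality of an exponential sum forces a Laurent polynomial.
-/

set_option autoImplicit false
set_option linter.style.haveILetI false

noncomputable section

open Polynomial

namespace Groth.L14.Stack.ExpSum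

/-- Monic integral polynomials vanishing only at zero and at roots of unity. -/
def Good (D : ℤ[X]) : Prop :=
  D.Monic ∧ ∀ z : ℂ, aeval z D = 0 → z = 0 ∨ ∃ n : ℕ, 0 < n ∧ z ^ n = 1

theorem good_one : Good 1 := ⟨monic_one, fun z hz => by simp at hz⟩

theorem good_mul {D E : ℤ[X]} (hD : Good D) (hE : Good E) : Good (D * E) :=
  ⟨hD.1.mul hE.1, fun z hz => by
    rw [map_mul, mul_eq_zero] at hz
    exact hz.elim (hD.2 z) (hE.2 z)⟩

/-- The map from integral polynomials to rational functions. -/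
def toRat : ℤ[X] →+* RatFunc ℚ :=
  (algebraMap ℚ[X] (RatFunc ℚ)).comp (mapRingHom (Int.castRingHom ℚ))

theorem toRat_apply (D : ℤ[X]) :
    toRat D = algebraMap ℚ[X] (RatFunc ℚ) (D.map (Int.castRingHom ℚ)) := rfl

theorem toRat_ne_zero {D : ℤ[X]} (hD : D.Monic) : toRat D ≠ 0 := by
  rw [toRat_apply, map_ne_zero_iff _ (RatFunc.algebraMap_injective ℚ)]
  exact (hD.map _).ne_zero

theorem exists_frac (F : RatFunc ℚ)
    (hF : F ∈ Subring.closure
      (({RatFunc.X, (RatFunc.X : RatFunc ℚ)⁻¹} : Set (RatFunc ℚ)) ∪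
        Set.range fun n : ℕ => ((RatFunc.X : RatFunc ℚ) ^ (n + 1) - 1)⁻¹)) :
    ∃ N D : ℤ[X], Good D ∧ F * toRat D = toRat N := by
  have hX : toRat Polynomial.X = RatFunc.X := by rw [toRat_apply, Polynomial.map_X, RatFunc.algebraMap_X]
  induction hF using Subring.closure_induction with
  | mem x hx =>
    rcases hx with (rfl | rfl) | ⟨n, rfl⟩
    · exact ⟨X, 1, good_one, by rw [map_one, mul_one, hX]⟩
    · refine ⟨1, X, ⟨monic_X, fun z hz => Or.inl (by simpa using hz)⟩, ?_⟩
      rw [map_one, hX, inv_mul_cancel₀ RatFunc.X_ne_zero]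
    · have hm : (X ^ (n + 1) - 1 : ℤ[X]).Monic := by
        rw [← C_1]; exact monic_X_pow_sub_C 1 (Nat.succ_ne_zero n)
      refine ⟨1, X ^ (n + 1) - 1, ⟨hm, fun z hz => Or.inr ⟨n + 1, Nat.succ_pos n, ?_⟩⟩, ?_⟩
      · simpa [sub_eq_zero] using hz
      · have h := toRat_ne_zero hm
        simp only [map_one, map_sub, map_pow, hX] at h ⊢
        exact inv_mul_cancel₀ h
  | zero => exact ⟨0, 1, good_one, by simp⟩
  | one => exact ⟨1, 1, good_one, by simp⟩
  | add x y _ _ hx hy =>
    obtain ⟨N, D, hD, e⟩ := hx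
    obtain ⟨N', D', hD', e'⟩ := hy
    exact ⟨N * D' + N' * D, D * D', good_mul hD hD', by
      rw [map_mul, map_add, map_mul, map_mul, ← e, ← e']; ring⟩
  | neg x _ hx =>
    obtain ⟨N, D, hD, e⟩ := hx
    exact ⟨-N, D, hD, by rw [map_neg, ← e, neg_mul]⟩
  | mul x y _ _ hx hy =>
    obtain ⟨N, D, hD, e⟩ := hx
    obtain ⟨N', D', hD', e'⟩ := hy
    exact ⟨N * N', D * D', good_mul hD hD', by rw [map_mul, map_mul, ← e, ← e']; ring⟩

theorem denom_dvd (F : RatFunc ℚ) {N D : ℤ[X]} (hD : Good D) (h : F * toRat D = toRat N) :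
    F.denom ∣ D.map (Int.castRingHom ℚ) ∧
      F.num * D.map (Int.castRingHom ℚ) = N.map (Int.castRingHom ℚ) * F.denom := by
  have hne := toRat_ne_zero hD.1
  have hF : F = algebraMap ℚ[X] (RatFunc ℚ) (N.map (Int.castRingHom ℚ)) /
      algebraMap ℚ[X] (RatFunc ℚ) (D.map (Int.castRingHom ℚ)) := by
    rw [← toRat_apply, ← toRat_apply, eq_div_iff hne, h]
  have hd : F.denom ∣ D.map (Int.castRingHom ℚ) := by rw [hF]; exact RatFunc.denom_div_dvd _ _
  refine ⟨hd, RatFunc.algebraMap_injective ℚ ?_⟩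
  have hden : algebraMap ℚ[X] (RatFunc ℚ) F.denom ≠ 0 :=
    (map_ne_zero_iff _ (RatFunc.algebraMap_injective ℚ)).mpr F.denom_ne_zero
  have e1 : algebraMap ℚ[X] (RatFunc ℚ) F.num = F * algebraMap ℚ[X] (RatFunc ℚ) F.denom := by
    conv_rhs => rw [← RatFunc.num_div_denom F]
    rw [RatFunc.num_div_denom, ← div_eq_iff hden, RatFunc.num_div_denom]
  rw [map_mul, map_mul, e1, ← toRat_apply, ← toRat_apply, ← h]
  ring

/-- The logarithmic derivative of a rational exponential. -/
theorem recurrence (u : ℕ → ℚ) (P Q : ℚ[X]) (hQ : Q ≠ 0)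
    (h : (PowerSeries.exp ℚ).subst
          (PowerSeries.mk fun v : ℕ => if v = 0 then (0 : ℚ) else u v / (v : ℚ))
        * (Q : PowerSeries ℚ) = (P : PowerSeries ℚ)) :
    ∃ c : ℚ[X], c ≠ 0 ∧ ∃ n₀ : ℕ, c.natDegree ≤ n₀ ∧ ∀ n, n₀ ≤ n →
      ∑ i ∈ Finset.range (c.natDegree + 1), c.coeff i * u (n - i + 1) = 0 := by
  set S : PowerSeries ℚ := PowerSeries.mk fun v : ℕ => if v = 0 then (0 : ℚ) else u v / (v : ℚ)
  have hS0 : PowerSeries.constantCoeff S = 0 := by
    simp [S, ← PowerSeries.coeff_zero_eq_constantCoeff_apply]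
  have hsub : PowerSeries.HasSubst S := PowerSeries.HasSubst.of_constantCoeff_zero' hS0
  set G : PowerSeries ℚ := (PowerSeries.exp ℚ).subst S
  have hG : PowerSeries.derivative ℚ G = G * PowerSeries.derivative ℚ S := by
    rw [PowerSeries.derivative_subst hsub, PowerSeries.derivative_exp]
  have hS' : ∀ n, PowerSeries.coeff n (PowerSeries.derivative ℚ S) = u (n + 1) := by
    intro n
    rw [PowerSeries.coeff_derivative, PowerSeries.coeff_mk, if_neg (Nat.succ_ne_zero n)]
    push_cast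
    field_simp
  have hG0 : G ≠ 0 := by
    intro h0
    have h1 := congrArg PowerSeries.constantCoeff h0
    simp only [G, map_zero] at h1
    change MvPowerSeries.constantCoeff (PowerSeries.subst S (PowerSeries.exp ℚ)) = 0 at h1
    rw [PowerSeries.constantCoeff_subst hsub, finsum_eq_single _ 0 (fun d hd => ?_)] at h1
    · simp at h1
    · rw [← PowerSeries.constantCoeff, map_pow, hS0, zero_pow hd, smul_zero]
  have hP : P ≠ 0 := by
    rintro rfl
    rw [Polynomial.coe_zero, mul_eq_zero] at h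
    exact h.elim hG0 (fun h' => hQ (Polynomial.coe_eq_zero_iff.mp h'))
  have hkey : ((P * Q : ℚ[X]) : PowerSeries ℚ) * PowerSeries.derivative ℚ S =
      ((derivative P * Q - P * derivative Q : ℚ[X]) : PowerSeries ℚ) := by
    have hd := congrArg (PowerSeries.derivative ℚ) h
    rw [Derivation.leibniz, hG, PowerSeries.derivative_coe, PowerSeries.derivative_coe,
      smul_eq_mul, smul_eq_mul] at hd
    rw [Polynomial.coe_mul, Polynomial.coe_sub, Polynomial.coe_mul, Polynomial.coe_mul, ← hd, ← h]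
    ring
  refine ⟨P * Q, mul_ne_zero hP hQ,
    max ((derivative P * Q - P * derivative Q).natDegree + 1) ((P * Q).natDegree), le_max_right _ _,
    fun n hn => ?_⟩
  have := congrArg (PowerSeries.coeff n) hkey
  rw [PowerSeries.coeff_mul, Polynomial.coeff_coe,
    Polynomial.coeff_eq_zero_of_natDegree_lt (lt_of_lt_of_le (Nat.lt_succ_self _) ((le_max_left _ _).trans hn)),
    Finset.Nat.sum_antidiagonal_eq_sum_range_succ_mk] at this
  rw [← this]
  refine (Finset.sum_congr rfl fun i _ => ?_).trans (Finset.sum_subset ?_ fun i _ hi => ?_)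
  · rw [Polynomial.coeff_coe, hS']
  · exact Finset.range_subset_range.mpr (by have := (le_max_right _ _).trans hn; omega)
  · rw [Polynomial.coeff_coe, Polynomial.coeff_eq_zero_of_natDegree_lt (by simpa using hi), zero_mul]

theorem main (q : ℤ) (hq : 1 < q) (F : RatFunc ℚ)
    (hF : F ∈ Subring.closure
      (({RatFunc.X, (RatFunc.X : RatFunc ℚ)⁻¹} : Set (RatFunc ℚ)) ∪
        Set.range fun n : ℕ => ((RatFunc.X : RatFunc ℚ) ^ (n + 1) - 1)⁻¹))
    (hrat : ∃ P Q : Polynomial ℚ, Q ≠ 0 ∧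
      (PowerSeries.exp ℚ).subst
          (PowerSeries.mk fun v : ℕ => if v = 0 then (0 : ℚ)
            else F.eval (RingHom.id ℚ) ((q : ℚ) ^ v) / (v : ℚ))
        * (Q : PowerSeries ℚ) = (P : PowerSeries ℚ)) :
    ∃ (P : Polynomial ℤ) (a : ℕ),
      F * RatFunc.X ^ a = algebraMap (Polynomial ℚ) (RatFunc ℚ) (P.map (Int.castRingHom ℚ)) := by
  classical
  obtain ⟨N, D, hD, hFD⟩ := exists_frac F hF
  obtain ⟨hden, hnum⟩ := denom_dvd F hD hFD
  obtain ⟨P₀, Q₀, hQ₀, hPQ⟩ := hrat
  obtain ⟨c, hc, n₀, hn₀, hrec⟩ := recurrence (fun v => F.eval (RingHom.id ℚ) ((q : ℚ) ^ v)) P₀ Q₀ hQ₀ hPQ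
  set A := F.num
  set B := F.denom
  set m := c.natDegree
  have hq1 : (1 : ℚ) < q := by exact_mod_cast hq
  have hq0 : (q : ℚ) ≠ 0 := by positivity
  -- roots of the denominator
  have hBroot : ∀ z : ℂ, aeval z B = 0 → z = 0 ∨ ∃ n : ℕ, 0 < n ∧ z ^ n = 1 := by
    intro z hz
    obtain ⟨e, he⟩ := hden
    refine hD.2 z ?_
    have h1 : aeval z (D.map (algebraMap ℤ ℚ)) = 0 := by
      rw [algebraMap_int_eq, he, map_mul, hz, zero_mul]
    rwa [aeval_map_algebraMap] at h1
  have hBne : ∀ x : ℚ, 1 < x → B.eval x ≠ 0 := by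
    intro x hx h0
    have h1 : aeval ((algebraMap ℚ ℂ) x) B = 0 := by
      rw [aeval_algebraMap_apply, coe_aeval_eq_eval, h0, map_zero]
    rcases hBroot _ h1 with h2 | ⟨n, hn, h2⟩
    · rw [map_eq_zero] at h2; linarith
    · rw [← map_pow, ← map_one (algebraMap ℚ ℂ)] at h2
      exact (one_lt_pow₀ hx hn.ne').ne' ((algebraMap ℚ ℂ).injective h2)
  -- the polynomial identity
  let r : ℕ → ℚ[X] := fun i => C ((q : ℚ) ^ (m - i)) * X
  have hpoly : ∑ i ∈ Finset.range (m + 1),
      C (c.coeff i) * A.comp (r i) * ∏ j ∈ (Finset.range (m + 1)).erase i, B.comp (r j) = 0 := by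
    apply Polynomial.eq_zero_of_infinite_isRoot
    refine Set.infinite_of_injective_forall_mem (f := fun t : ℕ => (q : ℚ) ^ (t + n₀ + 1 - m)) ?_ fun t => ?_
    · intro t t' htt
      have := (pow_right_injective₀ (by linarith) hq1.ne') htt
      omega
    · show IsRoot _ _
      rw [IsRoot.def, eval_finsetSum]
      set v := t + n₀ + 1 - m with hv
      have hexp : ∀ i ∈ Finset.range (m + 1), (r i).eval ((q : ℚ) ^ v) = (q : ℚ) ^ (t + n₀ - i + 1) := by
        intro i hi
        rw [Finset.mem_range] at hi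
        simp only [r, eval_mul, eval_C, eval_X, ← pow_add]
        congr 1; omega
      have hB : ∀ i ∈ Finset.range (m + 1), (B.comp (r i)).eval ((q : ℚ) ^ v) ≠ 0 := by
        intro i hi
        rw [eval_comp, hexp i hi]
        exact hBne _ (one_lt_pow₀ hq1 (Nat.succ_ne_zero _))
      have hz := congrArg (· * ∏ j ∈ Finset.range (m + 1), (B.comp (r j)).eval ((q : ℚ) ^ v))
        (hrec (t + n₀) (Nat.le_add_left _ _))
      simp only [zero_mul, Finset.sum_mul] at hz
      refine (Finset.sum_congr rfl fun i hi => ?_).trans hz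
      rw [← Finset.mul_prod_erase _ _ hi, eval_mul, eval_mul, eval_C, eval_comp, eval_prod, hexp i hi]
      have hBi := hB i hi
      rw [eval_comp, hexp i hi] at hBi ⊢
      show _ = c.coeff i * ((A.eval₂ (RingHom.id ℚ) ((q : ℚ) ^ (t + n₀ - i + 1))) /
        (B.eval₂ (RingHom.id ℚ) ((q : ℚ) ^ (t + n₀ - i + 1)))) * _
      simp only [eval₂_id]
      field_simp
  -- no root of unity is a pole
  have hB0 : ∀ z : ℂ, aeval z B = 0 → z = 0 := by
    intro ζ hζ
    by_contra hζ0
    obtain ⟨n, hn, hζn⟩ := (hBroot ζ hζ).resolve_left hζ0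
    obtain ⟨e, he, hce⟩ : ∃ e ∈ Finset.range (m + 1), c.coeff e ≠ 0 :=
      ⟨m, Finset.self_mem_range_succ m, leadingCoeff_ne_zero.mpr hc⟩
    have hqC : ((q : ℂ)) ≠ 0 := by exact_mod_cast (by omega : q ≠ 0)
    set x : ℂ := ζ / (q : ℂ) ^ (m - e)
    have hr : ∀ i, aeval x (r i) = (q : ℂ) ^ (m - i) / (q : ℂ) ^ (m - e) * ζ := fun i => by
      simp [r, x]; ring
    have hζ1 : ‖ζ‖ = 1 := by
      have := congrArg norm hζn
      rw [norm_pow, norm_one] at this
      exact (pow_eq_one_iff_of_nonneg (norm_nonneg ζ) hn.ne').mp this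
    have hone : ∀ j ∈ Finset.range (m + 1), j ≠ e → aeval x (B.comp (r j)) ≠ 0 := by
      intro j hj hje h0
      rw [aeval_comp, hr] at h0
      rcases hBroot _ h0 with h1 | ⟨l, hl, h1⟩
      · simp [hqC, hζ0] at h1
      · have h2 := congrArg norm h1
        rw [norm_pow, norm_mul, norm_div, norm_pow, norm_pow, hζ1, mul_one, norm_one,
          pow_eq_one_iff_of_nonneg (by positivity) hl.ne',
          div_eq_one_iff_eq (pow_ne_zero _ (norm_ne_zero_iff.mpr hqC))] at h2
        have h3 : (1 : ℝ) < ‖(q : ℂ)‖ := by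
          rw [Complex.norm_intCast, abs_of_pos (by exact_mod_cast (by omega : (0 : ℤ) < q))]
          exact_mod_cast hq
        have := pow_right_injective₀ (by linarith) h3.ne' h2
        rw [Finset.mem_range] at hj he
        omega
    have hxe : aeval x (r e) = ζ := by rw [hr, div_self (pow_ne_zero _ hqC), one_mul]
    have h0 := congrArg (aeval x) hpoly
    rw [map_zero, map_sum, Finset.sum_eq_single_of_mem e he] at h0
    · rw [map_mul, map_mul, aeval_C, aeval_comp, hxe, map_prod, mul_eq_zero, mul_eq_zero] at h0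
      rcases h0 with (h0 | h0) | h0
      · exact hce ((map_eq_zero _).mp h0)
      · obtain ⟨u, w, huw⟩ := RatFunc.isCoprime_num_denom F
        have := congrArg (aeval ζ) huw
        rw [map_add, map_mul, map_mul, h0, hζ, mul_zero, mul_zero, add_zero, map_one] at this
        exact zero_ne_one this
      · obtain ⟨j, hj, hj0⟩ := Finset.prod_eq_zero_iff.mp h0
        exact hone j (Finset.mem_of_mem_erase hj) (Finset.ne_of_mem_erase hj) hj0
    · intro i hi hie
      rw [map_mul, map_prod, Finset.prod_eq_zero (Finset.mem_erase.mpr ⟨Ne.symm hie, he⟩), mul_zero]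
      rw [aeval_comp, hxe, hζ]
  -- the denominator is a power of the variable
  have hBX : B = X ^ B.natDegree := by
    apply Polynomial.map_injective (algebraMap ℚ ℂ) (algebraMap ℚ ℂ).injective
    rw [Polynomial.map_pow, Polynomial.map_X]
    have hm : (B.map (algebraMap ℚ ℂ)).Monic := (RatFunc.monic_denom F).map _
    have hs := IsAlgClosed.splits (B.map (algebraMap ℚ ℂ))
    have hroots : (B.map (algebraMap ℚ ℂ)).roots =
        Multiset.replicate (B.map (algebraMap ℚ ℂ)).roots.card 0 := by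
      refine Multiset.eq_replicate.mpr ⟨rfl, fun z hz => hB0 z ?_⟩
      rw [mem_roots hm.ne_zero, IsRoot.def, eval_map] at hz
      rwa [aeval_def]
    rw [hs.eq_prod_roots_of_monic hm, hroots, Multiset.map_replicate, Multiset.prod_replicate,
      map_zero, sub_zero, ← hs.natDegree_eq_card_roots,
      Polynomial.natDegree_map_eq_of_injective (algebraMap ℚ ℂ).injective]
  -- integrality
  set a := B.natDegree
  have hdvd : D ∣ X ^ a * N := by
    refine Polynomial.map_dvd_map (Int.castRingHom ℚ) Int.cast_injective hD.1 |>.mp ⟨A, ?_⟩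
    rw [Polynomial.map_mul, Polynomial.map_pow, Polynomial.map_X, ← hBX, mul_comm B, ← hnum, mul_comm]
  obtain ⟨P, hP⟩ := hdvd
  refine ⟨P, a, ?_⟩
  have h1 : F * toRat D * toRat (X ^ a) = toRat D * toRat P := by
    rw [hFD, ← map_mul, ← map_mul, ← hP, mul_comm]
  have hX : toRat (X ^ a) = (RatFunc.X : RatFunc ℚ) ^ a := by
    rw [map_pow, toRat_apply, Polynomial.map_X, RatFunc.algebraMap_X]
  rw [hX] at h1
  rw [← toRat_apply]
  apply mul_left_cancel₀ (toRat_ne_zero hD.1)
  linear_combination h1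

end Groth.L14.Stack.ExpSum
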